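import Cfsg.Prelude.Def_HallClasses
import Cfsg.Prelude.Def_OddOrderLocal
import Cfsg.Agent.Solvable.SZ
import Cfsg.Agent.S0205

/-!
# Hall subgroups and extensions: the class `C_π` is closed under extensions (helper988)

* `PiN π n` : all prime divisors of `n` lie in `π`; `PiN' π n` : none does;
* `isPiHall_map_mk`, `isPiHall_subgroupOf` : images in quotients and intersections with normal subgroups;
* `cpi_of_compl` : `C_π` for a normal `π'`-subgroup with `π`-quotient (Schur–Zassenhaus and the odd order theorem);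
* `cpi_of_normal_pi` : `C_π(G/N) → C_π(G)` for a normal `π`-subgroup `N`;
* `cpi_of_chain` : `C_π(M)` for a chain `S ≤ B` of normal subgroups, `π`, `π'`, `π`;
* `cpi_extension` : `C_π(A)` and `C_π(G/A)` imply `C_π(G)`.
-/

set_option autoImplicit false

namespace Cfsg.Agent.H988.CPi

open Subgroup Cfsg
open scoped Pointwise

/-- all prime divisors of `n` are in `π` -/
def PiN (π : Set ℕ) (n : ℕ) : Prop := ∀ p : ℕ, p.Prime → p ∣ n → p ∈ π

/-- no prime divisor of `n` is in `π` -/
def PiN' (π : Set ℕ) (n : ℕ) : Prop := ∀ p : ℕ, p.Prime → p ∈ π → ¬ p ∣ n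

variable {π : Set ℕ}

theorem PiN.of_dvd {m n : ℕ} (h : PiN π n) (hd : m ∣ n) : PiN π m := fun p hp h1 => h p hp (h1.trans hd)

theorem PiN'.of_dvd {m n : ℕ} (h : PiN' π n) (hd : m ∣ n) : PiN' π m := fun p hp h1 h2 => h p hp h1 (h2.trans hd)

theorem PiN.mul {m n : ℕ} (h : PiN π m) (h' : PiN π n) : PiN π (m * n) := fun p hp h1 =>
  (hp.dvd_mul.mp h1).elim (h p hp) (h' p hp)

theorem PiN'.mul {m n : ℕ} (h : PiN' π m) (h' : PiN' π n) : PiN' π (m * n) := fun p hp h1 h2 =>
  (hp.dvd_mul.mp h2).elim (h p hp h1) (h' p hp h1)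

theorem PiN.coprime {m n : ℕ} (h : PiN π m) (h' : PiN' π n) : m.Coprime n := by
  refine Nat.Coprime.symm (Nat.Coprime.symm ?_)
  refine Nat.coprime_of_dvd fun p hp h1 h2 => ?_
  exact h' p hp (h p hp h1) h2

theorem eq_one_of_both {n : ℕ} (h : PiN π n) (h' : PiN' π n) : n = 1 :=
  (Nat.coprime_self n).mp (h.coprime h')

theorem mul_unique {a b c d : ℕ} (ha : PiN π a) (hb : PiN' π b) (hc : PiN π c) (hd : PiN' π d) (h : a * b = c * d) :
    a = c := by
  apply Nat.dvd_antisymm
  · exact (ha.coprime hd).dvd_of_dvd_mul_right (h ▸ dvd_mul_right a b)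
  · exact (hc.coprime hb).dvd_of_dvd_mul_right (h ▸ dvd_mul_right c d)

variable {G : Type*} [Group G] [Finite G]

theorem isPiHall_iff {H : Subgroup G} : IsPiHall π H ↔ PiN π (Nat.card H) ∧ PiN' π H.index := Iff.rfl

theorem isPiHall_map_mk {H : Subgroup G} (h : IsPiHall π H) (A : Subgroup G) [A.Normal] :
    IsPiHall π (H.map (QuotientGroup.mk' A)) :=
  ⟨PiN.of_dvd h.1 (card_map_dvd _ _), PiN'.of_dvd h.2 (index_map_dvd _ (QuotientGroup.mk'_surjective A))⟩

theorem relIndex_mul_sup_index (H A : Subgroup G) [A.Normal] : H.relIndex A * (H ⊔ A).index = H.index := by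
  have h1 : (H ⊓ A).relIndex A * A.index = (H ⊓ A).index := relIndex_mul_index inf_le_right
  have h2 : (H ⊓ A).relIndex H * H.index = (H ⊓ A).index := relIndex_mul_index inf_le_left
  have h3 : A.relIndex (H ⊔ A) * (H ⊔ A).index = A.index := relIndex_mul_index le_sup_right
  rw [relIndex_sup_right] at h3
  rw [inf_relIndex_right] at h1
  rw [inf_relIndex_left] at h2
  have h4 : A.relIndex H ≠ 0 := ne_zero_of_dvd_ne_zero Nat.card_pos.ne' (relIndex_dvd_card A H)
  apply Nat.eq_of_mul_eq_mul_left (Nat.pos_of_ne_zero h4)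
  rw [h2, ← h1, ← h3]
  ring

theorem isPiHall_subgroupOf {H : Subgroup G} (h : IsPiHall π H) (A : Subgroup G) [A.Normal] :
    IsPiHall π (H.subgroupOf A) := by
  refine ⟨PiN.of_dvd h.1 ?_, PiN'.of_dvd h.2 ?_⟩
  · rw [← card_map_of_injective A.subtype_injective, subgroupOf_map_subtype]
    exact card_dvd_of_le inf_le_left
  · exact ⟨_, (relIndex_mul_sup_index H A).symm⟩

/-- A Hall subgroup contains the normal `π`-subgroups. -/
theorem le_of_normal {H N : Subgroup G} [N.Normal] (h : IsPiHall π H) (hN : PiN π (Nat.card N)) : N ≤ H := by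
  have h1 : H.relIndex N = 1 := by
    apply eq_one_of_both (π := π)
    · exact PiN.of_dvd hN (relIndex_dvd_card H N)
    · exact PiN'.of_dvd h.2 ⟨_, (relIndex_mul_sup_index H N).symm⟩
  exact relIndex_eq_one.mp h1

theorem conj_eq (g : G) (H : Subgroup G) : H.map (MulAut.conj g).toMonoidHom = MulAut.conj g • H := by
  ext x
  simp [Subgroup.mem_map, Subgroup.mem_smul_pointwise_iff_exists]

theorem isPiHall_smul {H : Subgroup G} (h : IsPiHall π H) (g : G) : IsPiHall π (MulAut.conj g • H) := by
  refine ⟨PiN.of_dvd h.1 ?_, PiN'.of_dvd h.2 ?_⟩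
  · rw [← conj_eq]; exact card_map_dvd _ _
  · rw [← conj_eq]
    exact index_map_dvd _ (MulAut.conj g).surjective

/-- **Schur–Zassenhaus**: a normal `π'`-subgroup with `π`-quotient. -/
theorem cpi_of_compl (N : Subgroup G) [N.Normal] (h1 : PiN' π (Nat.card N)) (h2 : PiN π N.index) : IsCPiGroup π G := by
  have hcop : (Nat.card N).Coprime N.index := (h2.coprime h1).symm
  refine ⟨?_, ?_⟩
  · obtain ⟨H, hH⟩ := exists_right_complement'_of_coprime hcop
    refine ⟨H, ?_, ?_⟩
    · intro p hp h
      have : Nat.card H = N.index := hH.symm.index_eq_card.symm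
      rw [this] at h
      exact h2 p hp h
    · intro p hp h h'
      have : H.index = Nat.card N := hH.index_eq_card
      rw [this] at h'
      exact h1 p hp h h'
  · intro H K hH hK
    have cardH : ∀ {H : Subgroup G}, IsPiHall π H → Nat.card H = N.index := by
      intro H hH
      refine mul_unique hH.1 hH.2 h2 h1 ?_
      rw [card_mul_index, mul_comm, card_mul_index]
    have hs : Group.IsSolvable N ∨ Group.IsSolvable H := by
      rcases Nat.even_or_odd (Nat.card N) with h | h
      · right
        apply Cfsg.Agent.S0205.result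
        rw [cardH hH]
        by_contra hne
        rw [Nat.not_odd_iff_even] at hne
        have := Nat.dvd_gcd h.two_dvd hne.two_dvd
        rw [Nat.Coprime] at hcop
        rw [hcop] at this
        omega
      · left
        exact Cfsg.Agent.S0205.result h
    obtain ⟨g, hg⟩ := Cfsg.Agent.Solvable.SZ.main _ G rfl N hcop H K hs (cardH hH) (cardH hK)
    exact ⟨g, by rw [conj_eq, hg]⟩

/-- `C_π(G/N) → C_π(G)` for a normal `π`-subgroup `N`. -/
theorem cpi_of_normal_pi (N : Subgroup G) [N.Normal] (h1 : PiN π (Nat.card N)) (h2 : IsCPiGroup π (G ⧸ N)) :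
    IsCPiGroup π G := by
  obtain ⟨⟨Q, hQ⟩, h3⟩ := h2
  refine ⟨⟨Q.comap (QuotientGroup.mk' N), ?_, ?_⟩, ?_⟩
  · have hc : Nat.card (Q.comap (QuotientGroup.mk' N)) = Nat.card N * Nat.card Q := by
      have h4 := card_mul_index (Q.comap (QuotientGroup.mk' N))
      rw [index_comap_of_surjective _ (QuotientGroup.mk'_surjective N)] at h4
      have h5 := card_mul_index Q
      have h6 := card_mul_index N
      have h7 : Nat.card (G ⧸ N) = N.index := rfl
      rw [h7] at h5
      have h8 : Q.index ≠ 0 := index_ne_zero_of_finite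
      apply Nat.eq_of_mul_eq_mul_right (Nat.pos_of_ne_zero h8)
      rw [h4, mul_assoc, h5, h6]
    have h5 : PiN π (Nat.card (Q.comap (QuotientGroup.mk' N))) := by
      rw [hc]; exact PiN.mul h1 hQ.1
    exact h5
  · have h5 : PiN' π (Q.comap (QuotientGroup.mk' N)).index := by
      rw [index_comap_of_surjective _ (QuotientGroup.mk'_surjective N)]; exact hQ.2
    exact h5
  · intro H K hH hK
    obtain ⟨g, hg⟩ := h3 _ _ (isPiHall_map_mk hH N) (isPiHall_map_mk hK N)
    rw [conj_eq] at hg
    obtain ⟨x, hx⟩ := Cfsg.Agent.Solvable.SZ.conj_le_sup_of_quotient N H K ⟨g, hg.symm⟩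
    refine ⟨x, ?_⟩
    rw [conj_eq]
    rw [sup_of_le_left (le_of_normal hK h1)] at hx
    symm
    apply eq_of_le_of_card_ge hx
    rw [Cfsg.Agent.Solvable.SZ.card_conj_smul]
    apply le_of_eq
    exact mul_unique hK.1 hK.2 hH.1 hH.2 (by rw [card_mul_index, card_mul_index])

/-- `C_π(M)` for a chain `S ≤ B` of normal subgroups, `π`, `π'`, `π`. -/
theorem cpi_of_chain (S B : Subgroup G) [S.Normal] [B.Normal] (hSB : S ≤ B) (h1 : PiN π (Nat.card S))
    (h2 : PiN' π (S.relIndex B)) (h3 : PiN π B.index) : IsCPiGroup π G := by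
  apply cpi_of_normal_pi S h1
  have : (B.map (QuotientGroup.mk' S)).Normal := Normal.map inferInstance _ (QuotientGroup.mk'_surjective S)
  apply cpi_of_compl (B.map (QuotientGroup.mk' S))
  · have h4 : (B.map (QuotientGroup.mk' S)).index = B.index :=
      index_map_eq _ (QuotientGroup.mk'_surjective S) (by rw [QuotientGroup.ker_mk']; exact hSB)
    have h5 := card_mul_index (B.map (QuotientGroup.mk' S))
    have h6 : Nat.card (G ⧸ S) = S.index := rfl
    rw [h4, h6, ← relIndex_mul_index hSB] at h5
    have h7 : B.index ≠ 0 := index_ne_zero_of_finite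
    rw [Nat.eq_of_mul_eq_mul_right (Nat.pos_of_ne_zero h7) h5]
    exact h2
  · rw [index_map_eq _ (QuotientGroup.mk'_surjective S) (by rw [QuotientGroup.ker_mk']; exact hSB)]
    exact h3

/-- the subgroup `N_L(S)`, `S` a Hall subgroup of `A`, `A ≤ L`, `L/A` a `π`-group -/
theorem cpi_normalizer (A L S : Subgroup G) [A.Normal] (hAL : A ≤ L) (hSA : S ≤ A) (hS : PiN π (Nat.card S))
    (hS' : PiN' π (S.relIndex A)) (hL : PiN π (A.relIndex L)) :
    IsCPiGroup π ↥(normalizer (S : Set G) ⊓ L) := by
  set M := normalizer (S : Set G) ⊓ L with hM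
  have hSM : S ≤ M := le_inf le_normalizer (hSA.trans hAL)
  have n1 : (S.subgroupOf M).Normal := by
    have : (S.subgroupOf (normalizer (S : Set G))).Normal := inferInstance
    exact (normal_subgroupOf_iff_le_normalizer hSM).mpr inf_le_left
  have n2 : (A.subgroupOf M).Normal := inferInstance
  apply cpi_of_chain (S.subgroupOf M) (A.subgroupOf M)
  · intro x hx
    exact hSA hx
  · rw [← card_map_of_injective M.subtype_injective, subgroupOf_map_subtype, inf_of_le_left hSM]
    exact hS
  · have h1 : (S.subgroupOf M).relIndex (A.subgroupOf M) = S.relIndex (A ⊓ M) := by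
      rw [← inf_subgroupOf_right A M, relIndex_subgroupOf inf_le_right]
    rw [h1]
    refine PiN'.of_dvd hS' ?_
    have := relIndex_mul_relIndex S (A ⊓ M) A (le_inf hSA hSM) inf_le_left
    exact ⟨_, this.symm⟩
  · have h2 : (A.subgroupOf M).index = A.relIndex M := rfl
    rw [h2]
    refine PiN.of_dvd hL ?_
    rw [← relIndex_sup_right M A, ← relIndex_mul_relIndex A (M ⊔ A) L le_sup_right (sup_le inf_le_right hAL)]
    exact dvd_mul_right _ _

/-- Frattini -/
theorem sup_normalizer (A L S : Subgroup G) [A.Normal] (hAL : A ≤ L) (hSA : S ≤ A) (hS : PiN π (Nat.card S))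
    (hS' : PiN' π (S.relIndex A)) (hA : IsCPiGroup π ↥A) : A ⊔ (normalizer (S : Set G) ⊓ L) = L := by
  apply le_antisymm (sup_le hAL inf_le_right)
  intro x hx
  have hx1 : MulAut.conj x • S ≤ A := by
    rintro y ⟨s, hs, rfl⟩
    exact (inferInstance : A.Normal).conj_mem s (hSA hs) x
  have e1 : IsPiHall π (S.subgroupOf A) := by
    refine ⟨?_, hS'⟩
    have : PiN π (Nat.card (S.subgroupOf A)) := by
      rw [← card_map_of_injective A.subtype_injective, subgroupOf_map_subtype, inf_of_le_left hSA]
      exact hS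
    exact this
  have e2 : IsPiHall π ((MulAut.conj x • S).subgroupOf A) := by
    refine ⟨?_, ?_⟩
    · have : PiN π (Nat.card ((MulAut.conj x • S).subgroupOf A)) := by
        rw [← card_map_of_injective A.subtype_injective, subgroupOf_map_subtype, inf_of_le_left hx1,
          Cfsg.Agent.Solvable.SZ.card_conj_smul]
        exact hS
      exact this
    · have : PiN' π ((MulAut.conj x • S).relIndex A) := by
        have h3 : (MulAut.conj x • S).relIndex A = S.relIndex A := by
          have hA' : MulAut.conj x • A = A := by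
            ext y
            simp only [mem_smul_pointwise_iff_exists]
            constructor
            · rintro ⟨s, hs, rfl⟩
              exact (inferInstance : A.Normal).conj_mem s hs x
            · intro hy
              refine ⟨x⁻¹ * y * x, ?_, by simp [mul_assoc]⟩
              simpa using (inferInstance : A.Normal).conj_mem y hy x⁻¹
          conv_lhs => rw [← hA']
          have h4 := relIndex_mul_relIndex ⊥ (MulAut.conj x • S) (MulAut.conj x • A) bot_le
            (by rintro y ⟨s, hs, rfl⟩; exact ⟨s, hSA hs, rfl⟩)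
          have h5 := relIndex_mul_relIndex ⊥ S A bot_le hSA
          rw [relIndex_bot_left, relIndex_bot_left] at h4 h5
          rw [Cfsg.Agent.Solvable.SZ.card_conj_smul, Cfsg.Agent.Solvable.SZ.card_conj_smul, ← h5] at h4
          exact Nat.eq_of_mul_eq_mul_left Nat.card_pos h4
        rw [h3]
        exact hS'
      exact this
  obtain ⟨a, ha⟩ := hA.2 _ _ e1 e2
  rw [conj_eq] at ha
  obtain ⟨a', ha', h⟩ := Cfsg.Agent.Solvable.SZ.conj_of_subgroupOf A S (MulAut.conj x • S) hSA hx1 ⟨a, ha.symm⟩
  have h6 : MulAut.conj (a'⁻¹ * x) • S = S := by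
    rw [map_mul, mul_smul, ← h, ← mul_smul, ← map_mul, inv_mul_cancel, map_one, one_smul]
  have h7 : a'⁻¹ * x ∈ normalizer (S : Set G) := by
    rw [mem_normalizer_iff]
    intro y
    constructor
    · intro hy
      have : (MulAut.conj (a'⁻¹ * x)) y ∈ MulAut.conj (a'⁻¹ * x) • S := ⟨y, hy, rfl⟩
      rw [h6] at this
      exact this
    · intro hy
      have h8 : a'⁻¹ * x * y * (a'⁻¹ * x)⁻¹ ∈ MulAut.conj (a'⁻¹ * x) • S := by rw [h6]; exact hy
      obtain ⟨s, hs, h9⟩ := h8
      have : y = s := by
        have h10 : (MulAut.conj (a'⁻¹ * x)) s = (MulAut.conj (a'⁻¹ * x)) y := h9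
        exact ((MulAut.conj (a'⁻¹ * x)).injective h10).symm
      rw [this]
      exact hs
  have : x = a' * (a'⁻¹ * x) := by group
  rw [this]
  exact mul_mem_sup ha' (mem_inf.mpr ⟨h7, L.mul_mem (L.inv_mem (hAL ha')) hx⟩)

/-- **The class `C_π` is closed under extensions.** -/
theorem cpi_extension (A : Subgroup G) [A.Normal] (hA : IsCPiGroup π ↥A) (hQ : IsCPiGroup π (G ⧸ A)) :
    IsCPiGroup π G := by
  refine ⟨?_, ?_⟩
  · obtain ⟨Q, hQ1⟩ := hQ.1
    obtain ⟨S₀, hS₀⟩ := hA.1
    set L := Q.comap (QuotientGroup.mk' A) with hLdef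
    set S := S₀.map A.subtype with hSdef
    have hAL : A ≤ L := by
      intro a ha
      have : (QuotientGroup.mk' A) a = 1 := (QuotientGroup.eq_one_iff a).mpr ha
      show (QuotientGroup.mk' A) a ∈ Q
      rw [this]
      exact one_mem Q
    have hSA : S ≤ A := map_subtype_le S₀
    have hS0 : S.subgroupOf A = S₀ := by
      rw [hSdef, subgroupOf, comap_map_eq_self_of_injective A.subtype_injective]
    have hS : PiN π (Nat.card S) := by
      rw [hSdef, card_map_of_injective A.subtype_injective]; exact hS₀.1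
    have hS' : PiN' π (S.relIndex A) := by
      show PiN' π (S.subgroupOf A).index
      rw [hS0]; exact hS₀.2
    have hLi : L.index = Q.index := index_comap_of_surjective _ (QuotientGroup.mk'_surjective A)
    have hL : PiN π (A.relIndex L) := by
      have h1 := relIndex_mul_index hAL
      have h2 : A.index = Nat.card (G ⧸ A) := rfl
      rw [hLi, h2, ← card_mul_index Q] at h1
      rw [Nat.eq_of_mul_eq_mul_right (Nat.pos_of_ne_zero index_ne_zero_of_finite) h1]
      exact hQ1.1
    obtain ⟨⟨H, hH⟩, -⟩ := cpi_normalizer A L S hAL hSA hS hS' hL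
    refine ⟨H.map (Subgroup.subtype _), ?_, ?_⟩
    · have : PiN π (Nat.card (H.map (Subgroup.subtype (normalizer (S : Set G) ⊓ L)))) := by
        rw [card_map_of_injective (Subgroup.subtype_injective _)]; exact hH.1
      exact this
    · have : PiN' π (H.map (Subgroup.subtype (normalizer (S : Set G) ⊓ L))).index := by
        rw [index_map_subtype]
        refine PiN'.mul hH.2 ?_
        have h3 := sup_normalizer A L S hAL hSA hS hS' hA
        rw [← relIndex_mul_index (inf_le_right : normalizer (S : Set G) ⊓ L ≤ L)]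
        refine PiN'.mul ?_ (by rw [hLi]; exact hQ1.2)
        set M := normalizer (S : Set G) ⊓ L with hM
        have h4 : M.relIndex L = M.relIndex A := by
          have h5 := relIndex_mul_sup_index M A
          have h6 := relIndex_mul_index (inf_le_right : M ≤ L)
          rw [sup_comm, h3] at h5
          exact Nat.eq_of_mul_eq_mul_right (Nat.pos_of_ne_zero index_ne_zero_of_finite) (h6.trans h5.symm)
        rw [h4]
        exact PiN'.of_dvd hS' (relIndex_dvd_of_le_left A (le_inf le_normalizer (hSA.trans hAL)))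
      exact this
  · intro H K hH hK
    obtain ⟨g, hg⟩ := hQ.2 _ _ (isPiHall_map_mk hH A) (isPiHall_map_mk hK A)
    obtain ⟨g, rfl⟩ := QuotientGroup.mk'_surjective A g
    rw [conj_eq, ← Cfsg.Agent.Solvable.SZ.map_conj_smul] at hg
    set H1 := MulAut.conj g • H with hH1
    have hH1' : IsPiHall π H1 := isPiHall_smul hH g
    obtain ⟨a, ha⟩ := hA.2 _ _ (isPiHall_subgroupOf hH1' A) (isPiHall_subgroupOf hK A)
    rw [conj_eq] at ha
    set H2 := MulAut.conj (a : G) • H1 with hH2
    have hH2' : IsPiHall π H2 := isPiHall_smul hH1' (a : G)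
    have hA2 : ∀ x : G, MulAut.conj x • A = A := by
      intro x
      ext y
      simp only [mem_smul_pointwise_iff_exists]
      constructor
      · rintro ⟨s, hs, rfl⟩
        exact (inferInstance : A.Normal).conj_mem s hs x
      · intro hy
        refine ⟨x⁻¹ * y * x, ?_, by simp [mul_assoc]⟩
        simpa using (inferInstance : A.Normal).conj_mem y hy x⁻¹
    have hinf : H2 ⊓ A = K ⊓ A := by
      have := congrArg (Subgroup.map A.subtype) ha
      rw [Cfsg.Agent.Solvable.SZ.map_conj_smul, subgroupOf_map_subtype, subgroupOf_map_subtype] at this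
      rw [this, smul_inf]
      show H2 ⊓ A = MulAut.conj (a : G) • H1 ⊓ MulAut.conj (a : G) • A
      rw [hA2]
    have hmap : H2.map (QuotientGroup.mk' A) = K.map (QuotientGroup.mk' A) := by
      rw [hg, hH2, Cfsg.Agent.Solvable.SZ.map_conj_smul]
      have : (QuotientGroup.mk' A) (a : G) = 1 := (QuotientGroup.eq_one_iff _).mpr a.2
      rw [this, map_one, one_smul]
    have hsup : H2 ⊔ A = K ⊔ A := by
      have := congrArg (Subgroup.comap (QuotientGroup.mk' A)) hmap
      rw [comap_map_eq, comap_map_eq, QuotientGroup.ker_mk'] at this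
      exact this
    set S := K ⊓ A with hS
    set L := K ⊔ A with hL
    have key : ∀ X : Subgroup G, X ⊓ A = S → X ≤ normalizer (S : Set G) := by
      intro X hX x hx
      rw [← hX, mem_normalizer_iff]
      intro y
      constructor
      · intro hy
        exact mem_inf.mpr ⟨X.mul_mem (X.mul_mem hx hy.1) (X.inv_mem hx), (inferInstance : A.Normal).conj_mem y hy.2 x⟩
      · intro hy
        have e : y = x⁻¹ * (x * y * x⁻¹) * x := by group
        rw [e]
        refine mem_inf.mpr ⟨X.mul_mem (X.mul_mem (X.inv_mem hx) hy.1) hx, ?_⟩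
        simpa using (inferInstance : A.Normal).conj_mem _ hy.2 x⁻¹
    have hSA : S ≤ A := inf_le_right
    have hAL : A ≤ L := le_sup_right
    have c1 : PiN π (Nat.card S) := PiN.of_dvd hK.1 (card_dvd_of_le inf_le_left)
    have c2 : PiN' π (S.relIndex A) := by
      rw [hS, inf_relIndex_right]
      exact (isPiHall_subgroupOf hK A).2
    have c3 : PiN π (A.relIndex L) := by
      rw [hL, relIndex_sup_right]
      exact PiN.of_dvd hK.1 (relIndex_dvd_card A K)
    have hM := cpi_normalizer A L S hAL hSA c1 c2 c3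
    set M := normalizer (S : Set G) ⊓ L with hMdef
    have hKM : K ≤ M := le_inf (key K rfl) le_sup_left
    have hHM : H2 ≤ M := le_inf (key H2 hinf) (by rw [← hsup]; exact le_sup_left)
    have hall : ∀ X : Subgroup G, IsPiHall π X → X ≤ M → IsPiHall π (X.subgroupOf M) := by
      intro X hX hXM
      refine ⟨?_, ?_⟩
      · have : PiN π (Nat.card (X.subgroupOf M)) := by
          rw [← card_map_of_injective M.subtype_injective, subgroupOf_map_subtype, inf_of_le_left hXM]
          exact hX.1
        exact this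
      · have : PiN' π (X.relIndex M) := PiN'.of_dvd hX.2 (relIndex_dvd_index_of_le hXM)
        exact this
    obtain ⟨m, hm⟩ := hM.2 _ _ (hall H2 hH2' hHM) (hall K hK hKM)
    rw [conj_eq] at hm
    obtain ⟨m', -, hm'⟩ := Cfsg.Agent.Solvable.SZ.conj_of_subgroupOf M H2 K hHM hKM ⟨m, hm.symm⟩
    refine ⟨m' * (a * g), ?_⟩
    rw [conj_eq, map_mul, map_mul, mul_smul, mul_smul]
    exact hm'.symm

end Cfsg.Agent.H988.CPi
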