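import Cfsg.Agent.H988.AbSyl
import Cfsg.Agent.Lib.Cores
import Cfsg.Agent.S1938

/-!
# Almost simple groups with an outer automorphism of order `p`: Sylow `p`-subgroups are not abelian (helper988)
-/

set_option autoImplicit false

namespace Cfsg.Agent.H988.AlmostSimpleSyl

open Subgroup

universe u

variable {M : Type u} [Group M] [Finite M] {p : ℕ} [Fact p.Prime]

/-- **Abelian Sylow subgroups of almost simple groups**: `I ⊴ M` simple with trivial centraliser, `p ∣ |I|`,
`P` an abelian Sylow `p`-subgroup of `M`: then `p ∤ |M : I|`. -/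
theorem not_dvd_index (I : Subgroup M) [I.Normal]
    (hs : ∀ K : Subgroup M, K ≤ I → (∀ i ∈ I, ∀ k ∈ K, i * k * i⁻¹ ∈ K) → K = ⊥ ∨ K = I)
    (hC : ∀ x : M, (∀ i ∈ I, i * x = x * i) → x = 1) (hp : p ∣ Nat.card I)
    (P : Sylow p M) (hP : IsMulCommutative P) : ¬ p ∣ I.index := by
  intro hidx
  have hcomm : ∀ a ∈ (P : Subgroup M), ∀ b ∈ (P : Subgroup M), a * b = b * a := by
    intro a ha b hb
    have := hP.is_comm.comm (⟨a, ha⟩ : P) ⟨b, hb⟩
    exact congrArg Subtype.val this
  set L : Subgroup M := I ⊔ (P : Subgroup M) with hL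
  have hIL : I ≤ L := le_sup_left
  have hPL : (P : Subgroup M) ≤ L := le_sup_right
  let P1 : Sylow p ↥L := P.subtype hPL
  have hP1 : (P1 : Subgroup ↥L) = (P : Subgroup M).subgroupOf L := rfl
  have hP1c : IsMulCommutative P1 := by
    constructor
    constructor
    rintro ⟨a, ha⟩ ⟨b, hb⟩
    apply Subtype.ext
    apply Subtype.ext
    exact hcomm _ ha _ hb
  have hmem : ∀ l ∈ L, ∃ i ∈ I, ∃ x ∈ (P : Subgroup M), l = i * x := by
    intro l hl
    have hl' : l ∈ ((I ⊔ (P : Subgroup M) : Subgroup M) : Set M) := hl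
    rw [normal_mul] at hl'
    obtain ⟨i, hi, x, hx, h⟩ := Set.mem_mul.mp hl'
    exact ⟨i, hi, x, hx, h.symm⟩
  have hGI : ∀ a b : ↥L, a * b * a⁻¹ * b⁻¹ ∈ I.subgroupOf L := by
    intro a b
    obtain ⟨i, hi, x, hx, ha⟩ := hmem a a.2
    obtain ⟨j, hj, y, hy, hb⟩ := hmem b b.2
    show ((a * b * a⁻¹ * b⁻¹ : ↥L) : M) ∈ I
    rw [← QuotientGroup.eq_one_iff]
    have e1 : ((a : M) : M ⧸ I) = (x : M ⧸ I) := by
      rw [ha, QuotientGroup.mk_mul, (QuotientGroup.eq_one_iff i).mpr hi, one_mul]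
    have e2 : ((b : M) : M ⧸ I) = (y : M ⧸ I) := by
      rw [hb, QuotientGroup.mk_mul, (QuotientGroup.eq_one_iff j).mpr hj, one_mul]
    have e3 : ((x : M) : M ⧸ I) * (y : M ⧸ I) = (y : M ⧸ I) * (x : M ⧸ I) := by
      rw [← QuotientGroup.mk_mul, ← QuotientGroup.mk_mul, hcomm x hx y hy]
    show (((a : M) * b * (a : M)⁻¹ * (b : M)⁻¹ : M) : M ⧸ I) = 1
    rw [QuotientGroup.mk_mul, QuotientGroup.mk_mul, QuotientGroup.mk_mul, QuotientGroup.mk_inv, QuotientGroup.mk_inv,
      e1, e2, e3]
    group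
  have hPI : ¬ (P1 : Subgroup ↥L) ≤ I.subgroupOf L := by
    intro h
    have h1 : (P : Subgroup M) ≤ I := by
      intro x hx
      exact h (show (⟨x, hPL hx⟩ : ↥L) ∈ (P1 : Subgroup ↥L) from hx)
    exact P.not_dvd_index (hidx.trans (index_dvd_of_le h1))
  obtain ⟨x, hx, hxI, hiso⟩ := AbSyl.exists_isolated P1 hP1c (I.subgroupOf L) hGI hPI
  have hz := Cfsg.Agent.S1938.result P1 x hx hiso
  -- the p'-core of `L` meets `I` trivially
  set K : Subgroup M := (Cfsg.pPrimeCore p ↥L).map L.subtype ⊓ I with hK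
  have hKbot : K = ⊥ := by
    have hn : ∀ i ∈ I, ∀ k ∈ K, i * k * i⁻¹ ∈ K := by
      intro i hi k hk
      refine ⟨?_, (inferInstance : I.Normal).conj_mem k hk.2 i⟩
      obtain ⟨k', hk', rfl⟩ := hk.1
      refine ⟨⟨i, hIL hi⟩ * k' * ⟨i, hIL hi⟩⁻¹, ?_, rfl⟩
      exact (inferInstance : (Cfsg.pPrimeCore p ↥L).Normal).conj_mem k' hk' _
    rcases hs K inf_le_right hn with h | h
    · exact h
    · exfalso
      have h1 : I ≤ (Cfsg.pPrimeCore p ↥L).map L.subtype := by
        rw [← h]; exact inf_le_left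
      have h2 : Nat.card I ∣ Nat.card ((Cfsg.pPrimeCore p ↥L).map L.subtype) := card_dvd_of_le h1
      rw [card_map_of_injective L.subtype_injective] at h2
      have h3 := Cfsg.Agent.Lib.Cores.pPrimeCore_coprime (G := ↥L) p
      have h4 : p ∣ 1 := by
        have h5 := Nat.dvd_gcd (hp.trans h2) (dvd_refl p)
        rw [h3] at h5
        exact h5
      exact (Fact.out : p.Prime).one_lt.ne' (Nat.dvd_one.mp h4)
  apply hxI
  have hx1 : (x : M) = 1 := by
    apply hC
    intro i hi
    have h1 := hz ⟨i, hIL hi⟩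
    have h2 : i * (x : M) * i⁻¹ * (x : M)⁻¹ ∈ K := by
      refine ⟨⟨_, h1, rfl⟩, ?_⟩
      have h3 : i * (x : M) * i⁻¹ * (x : M)⁻¹ = i * ((x : M) * i⁻¹ * (x : M)⁻¹) := by group
      rw [h3]
      exact I.mul_mem hi ((inferInstance : I.Normal).conj_mem _ (I.inv_mem hi) _)
    rw [hKbot, mem_bot] at h2
    rw [mul_inv_eq_one, mul_inv_eq_iff_eq_mul] at h2
    exact h2
  show (x : M) ∈ I
  rw [hx1]
  exact I.one_mem

/-- **S4076.** -/
theorem main {S : Type u} [Group S] [Finite S] [IsSimpleGroup S]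
    (hna : ¬ IsMulCommutative S) (hp : p ∣ Nat.card S)
    (X : Subgroup (MulAut S)) (hX : (MulAut.conj : S →* MulAut S).range ≤ X)
    (hidx : p ∣ ((MulAut.conj : S →* MulAut S).range).relIndex X) (P : Sylow p ↥X) : ¬ IsMulCommutative P := by
  intro hP
  have hcen : center S = ⊥ := by
    rcases (inferInstance : (center S).Normal).eq_bot_or_eq_top with h | h
    · exact h
    · exfalso
      apply hna
      constructor
      constructor
      intro a b
      have : a ∈ center S := by rw [h]; trivial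
      exact (mem_center_iff.mp this b).symm
  have hinj : Function.Injective (MulAut.conj : S →* MulAut S) := by
    rw [injective_iff_map_eq_one]
    intro a ha
    have : a ∈ center S := by
      rw [mem_center_iff]
      intro g
      have h1 : MulAut.conj a g = g := by rw [ha]; rfl
      rw [MulAut.conj_apply] at h1
      have h2 : a * g = g * a := by
        rw [mul_inv_eq_iff_eq_mul] at h1; exact h1
      exact h2.symm
    rw [hcen] at this
    exact this
  set R := (MulAut.conj : S →* MulAut S).range with hR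
  have hconj : ∀ (φ : MulAut S) (s : S), φ * MulAut.conj s * φ⁻¹ = MulAut.conj (φ s) := by
    intro φ s
    ext t
    show φ (s * φ⁻¹ t * s⁻¹) = φ s * t * (φ s)⁻¹
    rw [map_mul, map_mul, map_inv]
    congr 2
    exact MulEquiv.apply_symm_apply φ t
  have hRn : R.Normal := by
    constructor
    rintro _ ⟨s, rfl⟩ φ
    rw [hconj]
    exact ⟨_, rfl⟩
  have hN : (R.subgroupOf X).Normal := inferInstance
  have : Finite (MulAut S) := inferInstance
  refine not_dvd_index (M := ↥X) (R.subgroupOf X) ?_ ?_ ?_ P hP hidx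
  · intro K hK hn
    -- the preimage of `K` in `S`
    let T : Subgroup S := (K.map X.subtype).comap (MulAut.conj : S →* MulAut S)
    have hT : T.Normal := by
      constructor
      intro t ht s
      show MulAut.conj (s * t * s⁻¹) ∈ K.map X.subtype
      obtain ⟨k, hk, hk'⟩ := (ht : MulAut.conj t ∈ K.map X.subtype)
      have hsX : MulAut.conj s ∈ X := hX ⟨s, rfl⟩
      refine ⟨⟨_, hsX⟩ * k * ⟨_, hsX⟩⁻¹, hn ⟨_, hsX⟩ (show MulAut.conj s ∈ R from ⟨s, rfl⟩) k hk, ?_⟩
      rw [map_mul, map_mul, map_inv, hk', map_mul, map_mul, map_inv]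
      rfl
    rcases hT.eq_bot_or_eq_top with h | h
    · left
      rw [eq_bot_iff]
      intro k hk
      obtain ⟨s, hs⟩ := (hK hk : (k : MulAut S) ∈ R)
      have h1 : s ∈ T := by
        show MulAut.conj s ∈ K.map X.subtype
        exact ⟨k, hk, hs.symm⟩
      rw [h, mem_bot] at h1
      rw [h1, map_one] at hs
      rw [mem_bot]
      exact Subtype.ext hs.symm
    · right
      apply le_antisymm hK
      rintro ⟨k, hkX⟩ hk
      obtain ⟨s, hs⟩ := (hk : k ∈ R)
      have h1 : s ∈ T := by rw [h]; trivial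
      obtain ⟨k', hk', h2⟩ := (h1 : MulAut.conj s ∈ K.map X.subtype)
      have h3 : (⟨k, hkX⟩ : ↥X) = k' := by
        apply Subtype.ext
        exact (h2.trans hs).symm
      rw [h3]
      exact hk'
  · intro x hx
    apply Subtype.ext
    show (x : MulAut S) = 1
    ext s
    have hsX : MulAut.conj s ∈ X := hX ⟨s, rfl⟩
    have h1 := hx ⟨_, hsX⟩ (show MulAut.conj s ∈ R from ⟨s, rfl⟩)
    have h2 : MulAut.conj s * (x : MulAut S) = (x : MulAut S) * MulAut.conj s := congrArg Subtype.val h1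
    have h3 := hconj (x : MulAut S) s
    rw [← h2, mul_inv_cancel_right] at h3
    exact (hinj h3).symm
  · have h1 : Nat.card (R.subgroupOf X) = Nat.card S := by
      rw [← card_map_of_injective X.subtype_injective, subgroupOf_map_subtype, inf_of_le_left hX]
      exact (Nat.card_congr (MonoidHom.ofInjective hinj).toEquiv).symm
    rw [h1]
    exact hp

end Cfsg.Agent.H988.AlmostSimpleSyl
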