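import Mathlib

/-!
# Abelian Sylow subgroups: an isolated element outside a normal subgroup with commutative quotient (helper988)

`exists_isolated` : `P` an abelian Sylow `p`-subgroup of `G`, `I` a normal subgroup with `G / I` commutative and
`P ≰ I`: some `x ∈ P`, `x ∉ I` is the only conjugate of `x` in `P`.
-/

set_option autoImplicit false

namespace Cfsg.Agent.H988.AbSyl

open Subgroup

variable {G : Type*} [Group G] [Finite G] {p : ℕ} [Fact p.Prime]

theorem exists_isolated (P : Sylow p G) (hP : IsMulCommutative P) (I : Subgroup G) [I.Normal]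
    (hGI : ∀ a b : G, a * b * a⁻¹ * b⁻¹ ∈ I) (hPI : ¬ (P : Subgroup G) ≤ I) :
    ∃ x ∈ (P : Subgroup G), x ∉ I ∧ ∀ g : G, g * x * g⁻¹ ∈ (P : Subgroup G) → g * x * g⁻¹ = x := by
  classical
  obtain ⟨u, hu, huI⟩ := SetLike.not_le_iff_exists.mp hPI
  have hcomm : ∀ a ∈ (P : Subgroup G), ∀ b ∈ (P : Subgroup G), a * b = b * a := by
    intro a ha b hb
    have := hP.is_comm.comm (⟨a, ha⟩ : P) ⟨b, hb⟩
    exact congrArg Subtype.val this
  let cg : CommGroup ↥(P : Subgroup G) :=
    { (inferInstance : Group ↥(P : Subgroup G)) with mul_comm := fun a b => Subtype.ext (hcomm _ a.2 _ b.2) }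
  set N : Subgroup G := normalizer ((P : Subgroup G) : Set G) with hN
  have hPN : (P : Subgroup G) ≤ N := le_normalizer
  set C : Subgroup ↥N := (P : Subgroup G).subgroupOf N with hC
  have key : ∀ n ∈ N, ∀ y ∈ (P : Subgroup G), n * y * n⁻¹ ∈ (P : Subgroup G) := by
    intro n hn y hy
    exact (mem_normalizer_iff.mp hn y).mp hy
  let F0 : ↥N → ↥(P : Subgroup G) := fun n => ⟨n * u * (n : G)⁻¹, key n n.2 u hu⟩
  have hF0 : ∀ n m : ↥N, (QuotientGroup.leftRel C) n m → F0 n = F0 m := by
    intro n m h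
    rw [QuotientGroup.leftRel_apply] at h
    have h1 : ((n : G)⁻¹ * m) ∈ (P : Subgroup G) := h
    apply Subtype.ext
    show (n : G) * u * (n : G)⁻¹ = m * u * (m : G)⁻¹
    have h2 := hcomm _ h1 _ hu
    have h3 : (m : G) * u * (m : G)⁻¹ = n * (((n : G)⁻¹ * m) * u) * (m : G)⁻¹ := by group
    rw [h3, h2]
    group
  let F : (↥N ⧸ C) → ↥(P : Subgroup G) := fun c => Quotient.lift F0 hF0 c
  have hF : ∀ n : ↥N, F (n : ↥N ⧸ C) = F0 n := fun n => rfl
  have : Fintype (↥N ⧸ C) := Fintype.ofFinite _
  set x : ↥(P : Subgroup G) := ∏ c : ↥N ⧸ C, F c with hx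
  -- invariance
  have hinv : ∀ n : ↥N, (n : G) * x * (n : G)⁻¹ = x := by
    intro n
    let φ : ↥(P : Subgroup G) →* ↥(P : Subgroup G) :=
      { toFun := fun y => ⟨n * y * (n : G)⁻¹, key n n.2 y y.2⟩
        map_one' := by apply Subtype.ext; simp
        map_mul' := by intro a b; apply Subtype.ext; simp [mul_assoc] }
    have h1 : φ x = x := by
      rw [hx, map_prod]
      rw [← Equiv.prod_comp (MulAction.toPerm n) F]
      apply Finset.prod_congr rfl
      intro c _
      induction c using QuotientGroup.induction_on with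
      | H m =>
        show φ (F0 m) = F ((MulAction.toPerm n) (m : ↥N ⧸ C))
        have : (MulAction.toPerm n) (m : ↥N ⧸ C) = ((n * m : ↥N) : ↥N ⧸ C) := rfl
        rw [this, hF]
        apply Subtype.ext
        show (n : G) * ((m : G) * u * (m : G)⁻¹) * (n : G)⁻¹ = (n * m : G) * u * (n * m : G)⁻¹
        group
    exact congrArg Subtype.val h1
  -- image in the quotient
  have himg : (QuotientGroup.mk' I) (x : G) = (QuotientGroup.mk' I u) ^ Fintype.card (↥N ⧸ C) := by
    have h1 : (QuotientGroup.mk' I) (x : G) = ((QuotientGroup.mk' I).comp (P : Subgroup G).subtype) x := rfl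
    rw [h1, hx]
    have h2 : ∀ s : Finset (↥N ⧸ C), ((QuotientGroup.mk' I).comp (P : Subgroup G).subtype) (∏ c ∈ s, F c) =
        (QuotientGroup.mk' I u) ^ s.card := by
      intro s
      induction s using Finset.induction_on with
      | empty => simp
      | insert c s hc ih =>
        rw [Finset.prod_insert hc, map_mul, ih, Finset.card_insert_of_notMem hc, pow_succ']
        congr 1
        induction c using QuotientGroup.induction_on with
        | H m =>
          show (QuotientGroup.mk' I) ((m : G) * u * (m : G)⁻¹) = QuotientGroup.mk' I u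
          have h3 := hGI (m : G) u
          have h4 : (QuotientGroup.mk' I) ((m : G) * u * (m : G)⁻¹ * u⁻¹) = 1 :=
            (QuotientGroup.eq_one_iff _).mpr h3
          rw [map_mul, map_inv, mul_inv_eq_one] at h4
          exact h4
    have h5 := h2 Finset.univ
    rw [Finset.card_univ] at h5
    exact h5
  have hcardC : ¬ p ∣ Fintype.card (↥N ⧸ C) := by
    have h1 : Fintype.card (↥N ⧸ C) = (P : Subgroup G).relIndex N := by
      rw [← Nat.card_eq_fintype_card]; rfl
    rw [h1]
    intro h2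
    exact P.not_dvd_index (h2.trans (relIndex_dvd_index_of_le hPN))
  refine ⟨x, x.2, ?_, ?_⟩
  · intro hxI
    have h1 : (QuotientGroup.mk' I) (x : G) = 1 := (QuotientGroup.eq_one_iff _).mpr hxI
    rw [himg] at h1
    obtain ⟨k, hk⟩ := P.isPGroup' ⟨u, hu⟩
    have hk' : u ^ p ^ k = 1 := congrArg Subtype.val hk
    have h2 : (QuotientGroup.mk' I u) ^ p ^ k = 1 := by rw [← map_pow, hk', map_one]
    have h3 : orderOf (QuotientGroup.mk' I u) ∣ p ^ k := orderOf_dvd_of_pow_eq_one h2
    have h4 : orderOf (QuotientGroup.mk' I u) ∣ Fintype.card (↥N ⧸ C) := orderOf_dvd_of_pow_eq_one h1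
    have hp : p.Prime := Fact.out
    have h5 : (p ^ k).Coprime (Fintype.card (↥N ⧸ C)) :=
      Nat.Coprime.pow_left k ((Nat.Prime.coprime_iff_not_dvd hp).mpr hcardC)
    have h6 : orderOf (QuotientGroup.mk' I u) = 1 := Nat.eq_one_of_dvd_coprimes h5 h3 h4
    rw [orderOf_eq_one_iff] at h6
    exact huI ((QuotientGroup.eq_one_iff _).mp h6)
  · intro g hg
    have : IsMulCommutative (P : Subgroup G) := hP
    have h1 := P.conj_eq_normalizer_conj_of_mem x g⁻¹ x.2 (by rw [inv_inv]; exact hg)
    obtain ⟨n, hn, h2⟩ := h1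
    rw [inv_inv] at h2
    rw [h2]
    have := hinv (⟨n, hn⟩ : ↥N)⁻¹
    simpa using this

end Cfsg.Agent.H988.AbSyl
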